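import Cfsg.Agent.H13.Sink.Cells
import Cfsg.Agent.H7.PActFStar
import Cfsg.Agent.H77.JData
import Cfsg.Agent.H74.SylIn
import Cfsg.Agent.H1.CoprimeAction

/-!
No member has a nontrivial periodic point in the maximal subgroup of another.
-/

set_option autoImplicit false

namespace H13.Sink

universe u

variable {G : Type u} [Group G]

theorem mem_normalizer_cellIn {d : G} {B : Subgroup G} (hd : d ∈ B) :
    d ∈ Subgroup.normalizer (cellIn d B : Set G) := by
  have := mem_normalizer_map_subtype (mem_normalizer_sinkGrp (⟨d, hd⟩ : ↥B))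
  rwa [map_subtype_sinkGrp] at this

theorem eq_of_le_of_conj [Finite G] {X Y : Subgroup G} (h : X ≤ Y)
    (hc : Nat.card Y ≤ Nat.card X) : X = Y := by
  refine SetLike.coe_injective (Set.eq_of_subset_of_ncard_le h ?_ (Set.toFinite _))
  rwa [← Nat.card_coe_set_eq, ← Nat.card_coe_set_eq]

theorem exists_normalizing_pGroup [Finite G] {p : ℕ} [Fact p.Prime] {P A : Subgroup G}
    (hP : IsPGroup p P) (hA : ¬ P ≤ A) :
    ∃ g ∈ P, g ∉ A ∧ ∀ x ∈ P ⊓ A, g * x * g⁻¹ ∈ P ⊓ A := by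
  haveI : Group.IsNilpotent P := hP.isNilpotent
  have hlt := Group.normalizerCondition_of_isNilpotent (A.subgroupOf P)
    (lt_top_iff_ne_top.2 fun h => hA (Subgroup.subgroupOf_eq_top.1 h))
  obtain ⟨g, hg, hgA⟩ := SetLike.exists_of_lt hlt
  refine ⟨g, g.2, fun h => hgA (Subgroup.mem_subgroupOf.2 h), fun x hx => ?_⟩
  have := (Subgroup.mem_normalizer_iff.1 hg ⟨x, hx.1⟩).1 (Subgroup.mem_subgroupOf.2 hx.2)
  exact Subgroup.mem_inf.2 ⟨P.mul_mem (P.mul_mem g.2 hx.1) (P.inv_mem g.2),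
    Subgroup.mem_subgroupOf.1 this⟩

namespace Sys

variable [Finite G] (S : Sys G)
include S

theorem exists_prime_core (hQ : S.CoreNe) :
    ∃ q : ℕ, q.Prime ∧ ∀ f ∈ S.K, Cfsg.pCoreOf q (S.M f) ≠ ⊥ := by
  obtain ⟨d, hd⟩ := S.nonempty
  have h := hQ d hd
  rw [fitOf, Ne, Subgroup.map_eq_bot_iff_of_injective _ Subtype.coe_injective,
    Cfsg.Comp.fitting_eq_iSup_pCore, iSup_eq_bot] at h
  push Not at h
  obtain ⟨⟨q, hq⟩, hq0⟩ := h
  refine ⟨q, hq, fun f hf h0 => hq0 ?_⟩
  obtain ⟨g, rfl⟩ := S.trans d hd f hf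
  rw [S.conj_M d hd g, H74.pCoreOf_map (S.M d) (MulAut.conj g).toMonoidHom (MulAut.conj g).injective,
    Subgroup.map_eq_bot_iff_of_injective _ (MulAut.conj g).injective, Cfsg.pCoreOf,
    Subgroup.map_eq_bot_iff_of_injective _ Subtype.coe_injective] at h0
  exact h0

omit [Finite G] in
theorem normalizer_pCoreOf {q : ℕ} {f : G} (hf : f ∈ S.K) (h0 : Cfsg.pCoreOf q (S.M f) ≠ ⊥) :
    Subgroup.normalizer (Cfsg.pCoreOf q (S.M f) : Set G) = S.M f := by
  rcases eq_or_lt_of_le (H75.le_normalizer_pCoreOf (p := q) (S.M f)) with h | h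
  · exact h.symm
  · exact absurd (S.core f hf _ (Subgroup.normalizer_eq_top_iff.1 ((S.coatom f hf).2 _ h))
      (H75.pCoreOf_le _)) h0

theorem noFail (hC : CellStmt.{u}) (hT : CoreStmt.{u}) (hQ : S.CoreNe) : S.NoFail := by
  obtain ⟨q, hqp, hq0⟩ := S.exists_prime_core hQ
  haveI : Fact q.Prime := ⟨hqp⟩
  intro d₀ hd₀ f₀ hf₀ hmem hne x hx hxM
  by_contra hx1
  set C : Set (G × G) :=
    {p | p.1 ∈ S.K ∧ p.2 ∈ S.K ∧ p.1 ∈ S.M p.2 ∧ S.M p.1 ≠ S.M p.2 ∧ cellIn p.1 (S.M p.2) ≠ ⊥}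
    with hCdef
  have hC0 : C.Nonempty := ⟨(d₀, f₀), hd₀, hf₀, hmem, hne, fun h => hx1 (by
    have h2 : x ∈ cellIn d₀ (S.M f₀) := Subgroup.subset_closure ⟨hx, hxM⟩
    rwa [h, Subgroup.mem_bot] at h2)⟩
  obtain ⟨⟨d, f⟩, ⟨hd, hf, hdf, hMne, hXne⟩, hmax⟩ :=
    (Set.toFinite C).exists_maximalFor (fun p => Nat.card (cellIn p.1 (S.M p.2))) C hC0
  simp only at hd hf hdf hMne hXne hmax
  set M := S.M d with hMdef
  set B := S.M f with hBdef
  set X := cellIn d B with hXdef
  set N := Subgroup.normalizer (X : Set G) with hNdef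
  have hB := S.ne_top hf
  have hM := S.ne_top hd
  have hdM : d ∈ M := S.mem d hd
  have hXM : X ≤ M := (Subgroup.closure_le M).2 fun y hy => S.sink_le d hd hy.1
  have hNtop : N ≠ ⊤ := fun h =>
    hXne (S.core f hf X (Subgroup.normalizer_eq_top_iff.1 h) (cellIn_le d B))
  have hdN : d ∈ N := mem_normalizer_cellIn hdf
  have hQBN : Cfsg.pCoreOf q B ≤ N :=
    (pCoreOf_le_fitOf q B).trans (S.fitOf_le_normalizer hC hB hdf)
  by_cases hNM : N ≤ M
  · have hQBM : Cfsg.pCoreOf q B ≤ M := hQBN.trans hNM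
    have hR : Cfsg.pCoreOf q M ⊓ B ≤ Cfsg.pCoreOf q B := by
      have hn : ∀ g : G, g ∈ M → g ∈ B →
          g ∈ Subgroup.normalizer ((Cfsg.pCoreOf q M ⊓ B : Subgroup G) : Set G) := fun g hg hgB =>
        Cfsg.Comp.inf_le_normalizer (T := M ⊓ B) (inf_le_left.trans (H75.le_normalizer_pCoreOf M))
          (inf_le_right.trans Subgroup.le_normalizer) ⟨hg, hgB⟩
      refine S.le_pCoreOf hT hB hdf inf_le_right ((H75.isPGroup_pCoreOf M).to_le inf_le_left)
        (hn d hdM hdf) (fun y hy hyB => hn y (S.sink_le d hd hy) hyB) fun g hgB hg => hn g ?_ hgB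
      exact hNM (S.mem_normalizer_of_phi hC hB hdf hgB (pCoreOf_le_fitOf q B hg))
    have hQMQB : Cfsg.pCoreOf q M ≤ Cfsg.pCoreOf q B := by
      suffices h : Cfsg.pCoreOf q M ≤ B from (le_inf le_rfl h).trans hR
      by_contra hcon
      have hJ : IsPGroup q ↥(Cfsg.pCoreOf q M ⊔ Cfsg.pCoreOf q B) :=
        (H75.isPGroup_pCoreOf M).to_sup_of_normal_left' (H75.isPGroup_pCoreOf B)
          (hQBM.trans (H75.le_normalizer_pCoreOf M))
      obtain ⟨g, -, hgB, hg⟩ := exists_normalizing_pGroup hJ (A := B)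
        (fun h => hcon (le_sup_left.trans h))
      have hJB : (Cfsg.pCoreOf q M ⊔ Cfsg.pCoreOf q B) ⊓ B ≤ Cfsg.pCoreOf q B := by
        rintro z ⟨hz, hzB⟩
        obtain ⟨m, hm, b, hb, rfl⟩ :=
          H1.exists_mul_of_mem_sup (hQBM.trans (H75.le_normalizer_pCoreOf M)) hz
        have hmB : m ∈ B := by
          have := B.mul_mem hzB (B.inv_mem (H75.pCoreOf_le B hb))
          rwa [mul_inv_cancel_right] at this
        exact mul_mem (hR ⟨hm, hmB⟩) hb
      apply hgB
      rw [hBdef, ← S.normalizer_pCoreOf hf (hq0 f hf)]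
      exact H77.mem_normalizer_of_forall fun k hk =>
        hJB (hg k ⟨Subgroup.mem_sup_right hk, H75.pCoreOf_le B hk⟩)
    obtain ⟨g, hg⟩ := S.trans d hd f hf
    have hBM : B = M.map (MulAut.conj g).toMonoidHom := by
      rw [hBdef, ← hg, S.conj_M d hd]
    have hQeq : Cfsg.pCoreOf q M = Cfsg.pCoreOf q B := by
      refine eq_of_le_of_conj hQMQB ?_
      rw [hBM, H74.pCoreOf_map M (MulAut.conj g).toMonoidHom (MulAut.conj g).injective]
      exact (Subgroup.card_map_of_injective (MulAut.conj g).injective).le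
    apply hMne
    rw [hMdef, hBdef, ← S.normalizer_pCoreOf hd (hq0 d hd), ← S.normalizer_pCoreOf hf (hq0 f hf),
      ← hMdef, ← hBdef, hQeq]
  · obtain ⟨T, -, -, -, -, -, r, hrN, hrM, hne₁, hrd, -, -⟩ := S.move hd hNtop hdN hNM
    set f₁ := r * d * r⁻¹ with hf₁def
    have hf₁ : f₁ ∈ S.K := S.conj_mem d hd r
    have hf₁N : f₁ ∈ N := mul_mem (mul_mem hrN hdN) (inv_mem hrN)
    have hXle : X ≤ cellIn f₁ M := by
      conv_lhs => rw [← Cfsg.Comp.map_conj_eq_of_mem_normalizer hrN, hXdef, cellIn,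
        MonoidHom.map_closure]
      rw [Subgroup.closure_le]
      rintro y ⟨z, hz, rfl⟩
      refine Subgroup.subset_closure ⟨cellIn_conj_mem hz.1, hXM ?_⟩
      exact Cfsg.Comp.conj_mem_of_le_normalizer (H := N) le_rfl hrN (Subgroup.subset_closure hz)
    have hXeq : cellIn f₁ M = X := by
      refine (eq_of_le_of_conj hXle ?_).symm
      have hmem₁ : (f₁, d) ∈ C :=
        ⟨hf₁, hd, hrd, hne₁, fun h => hXne (le_bot_iff.1 (le_of_le_of_eq hXle h))⟩
      have h2 := hmax hmem₁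
      simp only [← hMdef] at h2
      rcases le_total (Nat.card (cellIn f₁ M)) (Nat.card X) with h | h
      · exact h
      · exact h2 h
    have hQMN : Cfsg.pCoreOf q M ≤ N := by
      have := (pCoreOf_le_fitOf q M).trans (S.fitOf_le_normalizer hC hM hrd)
      rwa [hXeq] at this
    set U := Cfsg.pCoreOf q N with hUdef
    have hUM_le : U ⊓ M ≤ Cfsg.pCoreOf q M := by
      have hn : ∀ g : G, g ∈ N → g ∈ M →
          g ∈ Subgroup.normalizer ((U ⊓ M : Subgroup G) : Set G) := fun g hg hgM =>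
        Cfsg.Comp.inf_le_normalizer (T := N ⊓ M) (inf_le_left.trans (H75.le_normalizer_pCoreOf N))
          (inf_le_right.trans Subgroup.le_normalizer) ⟨hg, hgM⟩
      refine S.le_pCoreOf hT hM hrd inf_le_right ((H75.isPGroup_pCoreOf N).to_le inf_le_left)
        (hn f₁ hf₁N hrd) (fun y hy hyM => hn y ?_ hyM) fun g hgM hg => hn g ?_ hgM
      · refine Subgroup.le_normalizer ?_
        rw [← hXeq]
        exact Subgroup.subset_closure ⟨hy, hyM⟩
      · have := S.mem_normalizer_of_phi hC hM hrd hgM (pCoreOf_le_fitOf q M hg)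
        rwa [hXeq] at this
    have hagree : ∀ g : G, phi d g ∈ U → phi d g ∈ M → g ∈ M := by
      intro g hgU hgM
      set e := g * d * g⁻¹ with he
      have heM : e ∈ M := by
        have := mul_mem hgM hdM
        rwa [phi, inv_mul_cancel_right] at this
      have heq : cellIn e M = cellIn d M :=
        S.cellIn_eq hC hM hdM heM (pCoreOf_le_fitOf q M (hUM_le ⟨hgU, hgM⟩))
      have hW0 : cellIn d M = sinkGrp d := by
        rw [cellIn, Set.inter_eq_left.2 (S.sink_le d hd), sinkGrp]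
      have hle : sinkGrp d ≤ sinkGrp e := by
        rw [← hW0, ← heq]
        exact cellIn_le_sinkGrp e M
      have heq' : sinkGrp d = sinkGrp e := by
        refine eq_of_le_of_conj hle ?_
        rw [he, ← map_conj_sinkGrp]
        exact (Subgroup.card_map_of_injective (MulAut.conj g).injective).le
      refine S.closed d hd _ (fun h => ?_) ?_
        (Cfsg.Comp.mem_normalizer_of_map_conj_eq ((map_conj_sinkGrp d g).trans heq'.symm))
      · have h0 := S.core d hd _ (Subgroup.normalizer_eq_top_iff.1 h)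
          (hW0 ▸ cellIn_le d M)
        obtain ⟨z, hz, hz1⟩ := S.sink_ne d hd
        have h2 : z ∈ sinkGrp d := Subgroup.subset_closure hz
        rw [h0, Subgroup.mem_bot] at h2
        exact hz1 h2
      · exact sT_le_iff.2 ⟨mem_normalizer_sinkGrp d,
          fun z hz => Subgroup.le_normalizer (Subgroup.subset_closure hz)⟩
    have hnU : Subgroup.zpowers d ≤ Subgroup.normalizer (U : Set G) :=
      Subgroup.zpowers_le.2 (H75.le_normalizer_pCoreOf N hdN)
    have hUM : U ≤ M := by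
      refine le_trans le_sup_left (?_ : U ⊔ Subgroup.zpowers d ≤ M)
      by_contra hcon
      have hWN : U ⊔ Subgroup.zpowers d ≤ N :=
        sup_le (H75.pCoreOf_le N) (Subgroup.zpowers_le.2 hdN)
      obtain ⟨T, -, -, -, -, -, g, hgW, hgM, -, hgd, -, -⟩ :=
        S.move hd (fun h => hNtop (top_le_iff.1 (h ▸ hWN)))
          (Subgroup.mem_sup_right (Subgroup.mem_zpowers d)) hcon
      refine hgM (hagree g ?_ (mul_mem hgd (inv_mem hdM)))
      obtain ⟨v, hv, w, hw, rfl⟩ := H1.exists_mul_of_mem_sup hnU hgW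
      obtain ⟨k, rfl⟩ := Subgroup.mem_zpowers_iff.1 hw
      have e1 : phi d (v * d ^ k) = v * (d * v⁻¹ * d⁻¹) := by rw [phi]; group
      rw [e1]
      exact mul_mem hv (Cfsg.Comp.conj_mem_of_le_normalizer (H := Subgroup.zpowers d)
        hnU (Subgroup.mem_zpowers d) (inv_mem hv))
    have hQMU : Cfsg.pCoreOf q M ≤ U := by
      have hn : ∀ g : G, g ∈ M → g ∈ Subgroup.normalizer (Cfsg.pCoreOf q M : Set G) :=
        fun g hg => H75.le_normalizer_pCoreOf M hg
      exact S.le_pCoreOf hT hNtop hdN hQMN (H75.isPGroup_pCoreOf M) (hn d hdM)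
        (fun y hy _ => hn y (S.sink_le d hd hy)) fun g _ hg => hn g (hagree g hg (hUM hg))
    have hUeq : U = Cfsg.pCoreOf q M :=
      le_antisymm ((le_inf le_rfl hUM).trans hUM_le) hQMU
    apply hrM
    rw [← S.normalizer_pCoreOf hd (hq0 d hd), ← hMdef, ← hUeq]
    exact H75.le_normalizer_pCoreOf N hrN

end Sys

end H13.Sink
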