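import Cfsg.Agent.H13.Sink.Move

/-!
Two members of different cells generate a nilpotent subgroup or everything.
-/

set_option autoImplicit false
set_option linter.style.haveILetI false

namespace H13.Sink

universe u

variable {G : Type u} [Group G] [Finite G]

omit [Finite G] in
theorem isNilpotent_of_le {H K : Subgroup G} (h : H ≤ K) (hK : Group.IsNilpotent ↥K) :
    Group.IsNilpotent ↥H :=
  haveI := hK; Group.nilpotent_of_mulEquiv (Subgroup.subgroupOfEquivOfLe h)

theorem isNilpotent_fitOf (H : Subgroup G) : Group.IsNilpotent ↥(fitOf H) := by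
  haveI : Group.IsNilpotent ↥(Cfsg.fittingSubgroup ↥H) := H36.isNilpotent_fittingSubgroup
  exact Group.nilpotent_of_mulEquiv
    (Subgroup.equivMapOfInjective _ H.subtype H.subtype_injective)

namespace Sys

variable (S : Sys G)
include S

theorem pair (hFo : S.Foreign) (hJ : S.Join) : S.Pair := by
  intro x hx y hy hne hL
  set L := Subgroup.closure ({x, y} : Set G) with hLdef
  have hxL : x ∈ L := Subgroup.subset_closure (Set.mem_insert _ _)
  have hyL : y ∈ L := Subgroup.subset_closure (Set.mem_insert_of_mem _ rfl)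
  have key : ∀ a b : G, a ∈ S.K → b ∈ S.K → S.M a ≠ S.M b → a ∈ L → b ∈ L →
      L ≤ Subgroup.closure ({a, b} : Set G) → L ≤ S.M a → Group.IsNilpotent ↥L := by
    intro a b ha hb hab haL hbL hgen hle
    refine isNilpotent_of_le (hgen.trans ((Subgroup.closure_le _).2 ?_)) (hJ a ha)
    rintro z (rfl | rfl)
    · exact Subgroup.mem_sup_right (Subgroup.mem_zpowers _)
    · exact Subgroup.mem_sup_left (hFo _ hb a ha (hle hbL) hab.symm)
  by_cases h1 : L ≤ S.M x
  · exact key x y hx hy hne hxL hyL le_rfl h1
  by_cases h2 : L ≤ S.M y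
  · exact key y x hy hx hne.symm hyL hxL (by rw [hLdef, Set.pair_comm]) h2
  refine isNilpotent_of_le (K := fitOf L) ?_ (isNilpotent_fitOf L)
  conv_lhs => rw [hLdef]
  rw [Subgroup.closure_le]
  rintro z (rfl | rfl)
  · exact S.dich hFo hx hL hxL h1
  · exact S.dich hFo hy hL hyL h2

end Sys

end H13.Sink
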