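import Cfsg.Agent.H13.Sink.Defs
import Cfsg.Agent.H35.Engel

/-!
Elementary properties of the periodic points of a commutator map.
-/

set_option autoImplicit false

namespace H13.Sink

universe u v

open Function

variable {G : Type u} [Group G]

theorem phi_map {H : Type v} [Group H] (f : G →* H) (d g : G) : f (phi d g) = phi (f d) (f g) := by
  simp [phi]

theorem semiconj_phi {H : Type v} [Group H] (f : G →* H) (d : G) :
    Semiconj f (phi d) (phi (f d)) := phi_map f d

theorem iterate_phi_map {H : Type v} [Group H] (f : G →* H) (d g : G) (n : ℕ) :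
    f ((phi d)^[n] g) = (phi (f d))^[n] (f g) := (semiconj_phi f d).iterate_right n g

@[simp] theorem phi_one (d : G) : phi d 1 = 1 := by simp [phi]

theorem one_mem_sink (d : G) : (1 : G) ∈ sink d :=
  mk_mem_periodicPts Nat.one_pos (phi_one d)

theorem phi_mem_sink {d x : G} (hx : x ∈ sink d) : phi d x ∈ sink d := by
  obtain ⟨n, hn, hx⟩ := hx
  exact mk_mem_periodicPts hn (hx.apply_iterate 1)

theorem exists_preimage {d x : G} (hx : x ∈ sink d) : ∃ y ∈ sink d, phi d y = x := by
  obtain ⟨n, hn, hx⟩ := hx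
  refine ⟨(phi d)^[n - 1] x, mk_mem_periodicPts hn (hx.apply_iterate _), ?_⟩
  rw [← iterate_succ_apply' (phi d) (n - 1) x, show (n - 1).succ = n by omega]
  exact hx

theorem exists_iterate_eq {d x : G} (hx : x ∈ sink d) (k : ℕ) :
    ∃ y ∈ sink d, (phi d)^[k] y = x := by
  induction k with
  | zero => exact ⟨x, hx, rfl⟩
  | succ k ih =>
    obtain ⟨y, hy, rfl⟩ := ih
    obtain ⟨z, hz, rfl⟩ := exists_preimage hy
    exact ⟨z, hz, (iterate_succ_apply (phi d) k z)⟩

theorem eq_one_of_iterate {d x : G} (hx : x ∈ sink d) {n : ℕ} (h : (phi d)^[n] x = 1) : x = 1 := by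
  obtain ⟨m, hm, hm'⟩ := hx
  have h1 : (phi d)^[m * n] x = x := (hm'.mul_const n).eq
  rw [← h1, show m * n = (m * n - n) + n by
    have : n ≤ m * n := Nat.le_mul_of_pos_left n hm
    omega, iterate_add_apply, h, iterate_fixed (phi_one d)]

theorem exists_iterate_mem [Finite G] (d g : G) : ∃ n, (phi d)^[n] g ∈ sink d := by
  obtain ⟨a, b, hne, h⟩ := Finite.exists_ne_map_eq_of_infinite fun n : ℕ => (phi d)^[n] g
  rcases lt_or_gt_of_ne hne with hab | hab
  · refine ⟨a, mk_mem_periodicPts (n := b - a) (by omega) ?_⟩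
    show (phi d)^[b - a] ((phi d)^[a] g) = _
    rw [← iterate_add_apply, Nat.sub_add_cancel hab.le]
    exact h.symm
  · refine ⟨b, mk_mem_periodicPts (n := a - b) (by omega) ?_⟩
    show (phi d)^[a - b] ((phi d)^[b] g) = _
    rw [← iterate_add_apply, Nat.sub_add_cancel hab.le]
    exact h

theorem mem_sink_map {H : Type v} [Group H] (f : G →* H) {d x : G} (hx : x ∈ sink d) :
    f x ∈ sink (f d) := by
  obtain ⟨n, hn, hx⟩ := hx
  exact mk_mem_periodicPts hn (hx.map (semiconj_phi f d))

/-- Periodic points lift along surjections. -/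
theorem exists_sink_lift [Finite G] {H : Type v} [Group H] (f : G →* H) (hf : Surjective f)
    {d : G} {y : H} (hy : y ∈ sink (f d)) : ∃ x ∈ sink d, f x = y := by
  obtain ⟨m, hm, hy⟩ := hy
  obtain ⟨x, rfl⟩ := hf y
  obtain ⟨n, hn⟩ := exists_iterate_mem d x
  have hmn : n ≤ m * n := Nat.le_mul_of_pos_left n hm
  refine ⟨(phi d)^[m * n] x, ?_, ?_⟩
  · rw [show m * n = (m * n - n) + n by omega, iterate_add_apply]
    generalize (phi d)^[n] x = z at hn
    induction m * n - n with
    | zero => exact hn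
    | succ k ih => rw [iterate_succ_apply']; exact phi_mem_sink ih
  · rw [iterate_phi_map]
    exact (hy.mul_const n).eq

theorem mem_sink_equiv {H : Type v} [Group H] (f : G ≃* H) {d x : G} :
    f x ∈ sink (f d) ↔ x ∈ sink d :=
  ⟨fun h => by simpa using mem_sink_map f.symm.toMonoidHom h,
    fun h => mem_sink_map f.toMonoidHom h⟩

theorem sink_map_equiv {H : Type v} [Group H] (f : G ≃* H) (d : G) :
    sink (f d) = f '' sink d := by
  ext y
  refine ⟨fun hy => ⟨f.symm y, ?_, by simp⟩, ?_⟩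
  · rw [← mem_sink_equiv f]; simpa using hy
  · rintro ⟨x, hx, rfl⟩; exact (mem_sink_equiv f).2 hx

theorem sink_conj (d g : G) : sink (g * d * g⁻¹) = (fun x => g * x * g⁻¹) '' sink d :=
  sink_map_equiv (MulAut.conj g) d

theorem conj_mem_sink {d x g : G} (hg : g * d = d * g) (hx : x ∈ sink d) :
    g * x * g⁻¹ ∈ sink d := by
  have h := mem_sink_map (MulAut.conj g).toMonoidHom hx
  simpa [hg] using h

theorem map_sinkGrp {H : Type v} [Group H] (f : G ≃* H) (d : G) :
    (sinkGrp d).map f.toMonoidHom = sinkGrp (f d) := by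
  rw [sinkGrp, sinkGrp, MonoidHom.map_closure, sink_map_equiv]; rfl

theorem map_conj_sinkGrp (d g : G) :
    (sinkGrp d).map (MulAut.conj g).toMonoidHom = sinkGrp (g * d * g⁻¹) :=
  map_sinkGrp (MulAut.conj g) d

theorem map_sT {H : Type v} [Group H] (f : G ≃* H) (d : G) :
    (sT d).map f.toMonoidHom = sT (f d) := by
  rw [sT, sT, MonoidHom.map_closure, sink_map_equiv, Set.image_insert_eq]; rfl

theorem mem_normalizer_sinkGrp (d : G) : d ∈ Subgroup.normalizer (sinkGrp d : Set G) :=
  Cfsg.Comp.mem_normalizer_of_map_conj_eq (by rw [map_conj_sinkGrp, mul_inv_cancel_right])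

theorem mem_sT_self (d : G) : d ∈ sT d := Subgroup.subset_closure (Set.mem_insert _ _)

theorem sink_subset_sT (d : G) : sink d ⊆ sT d :=
  fun _ hx => Subgroup.subset_closure (Set.mem_insert_of_mem _ hx)

theorem sT_le_iff {d : G} {H : Subgroup G} : sT d ≤ H ↔ d ∈ H ∧ sink d ⊆ H := by
  rw [sT, Subgroup.closure_le, Set.insert_subset_iff]; rfl

theorem sinkGrp_le_sT (d : G) : sinkGrp d ≤ sT d :=
  (Subgroup.closure_le _).2 (sink_subset_sT d)

theorem sT_le_sup (d : G) : sT d ≤ sinkGrp d ⊔ Subgroup.zpowers d :=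
  sT_le_iff.2 ⟨Subgroup.mem_sup_right (Subgroup.mem_zpowers d),
    fun _ hx => Subgroup.mem_sup_left (Subgroup.subset_closure hx)⟩

/-- In a subgroup containing `d` the periodic points are those lying in it. -/
theorem mem_sink_subtype {H : Subgroup G} {d x : H} : x ∈ sink d ↔ (x : G) ∈ sink (d : G) := by
  refine ⟨fun h => mem_sink_map H.subtype h, ?_⟩
  rintro ⟨n, hn, hx⟩
  refine mk_mem_periodicPts hn (H.subtype_injective ?_)
  rw [iterate_phi_map]
  exact hx

theorem map_subtype_sinkGrp {H : Subgroup G} (d : H) :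
    (sinkGrp d).map H.subtype = cellIn (d : G) H := by
  rw [sinkGrp, MonoidHom.map_closure, cellIn]
  congr 1
  ext y
  constructor
  · rintro ⟨x, hx, rfl⟩; exact ⟨mem_sink_subtype.1 hx, x.2⟩
  · rintro ⟨hy, hyH⟩; exact ⟨⟨y, hyH⟩, mem_sink_subtype.2 hy, rfl⟩

theorem map_subtype_sT {H : Subgroup G} (d : H) :
    (sT d).map H.subtype = Subgroup.closure (insert (d : G) (sink (d : G) ∩ H)) := by
  rw [sT, MonoidHom.map_closure, Set.image_insert_eq]
  congr 2
  ext y
  constructor
  · rintro ⟨x, hx, rfl⟩; exact ⟨mem_sink_subtype.1 hx, x.2⟩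
  · rintro ⟨hy, hyH⟩; exact ⟨⟨y, hyH⟩, mem_sink_subtype.2 hy, rfl⟩

theorem cellIn_le (d : G) (B : Subgroup G) : cellIn d B ≤ B :=
  (Subgroup.closure_le B).2 Set.inter_subset_right

theorem cellIn_le_sinkGrp (d : G) (B : Subgroup G) : cellIn d B ≤ sinkGrp d :=
  Subgroup.closure_mono Set.inter_subset_left

/-- A subnormal subgroup containing `d` contains the periodic points. -/
theorem sink_subset_of_subnormal {d : G} {S : Subgroup G} (hS : S.IsSubnormal) (hd : d ∈ S) :
    sink d ⊆ S := by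
  induction hS with
  | top => exact fun x _ => Subgroup.mem_top x
  | step S' K hle _ hN ih =>
    intro x hx
    obtain ⟨y, hy, rfl⟩ := exists_preimage hx
    have hyK : y ∈ K := ih (hle hd) hy
    refine mul_mem ?_ (inv_mem hd)
    exact Subgroup.mem_subgroupOf.1 (hN.conj_mem ⟨d, hle hd⟩ (Subgroup.mem_subgroupOf.2 hd) ⟨y, hyK⟩)

theorem engel_eq_iterate (d x : G) (n : ℕ) : H35.engel d x n = (phi d)^[n] x := by
  induction n with
  | zero => rfl
  | succ n ih => rw [H35.engel_succ, iterate_succ_apply', ← ih]; rfl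

theorem eq_one_of_mem_fitting [Finite G] {d x : G} (hd : d ∈ Cfsg.fittingSubgroup G)
    (hx : x ∈ sink d) : x = 1 := by
  obtain ⟨n, hn⟩ := H35.engel_eventually_one_of_mem_fitting hd x
  exact eq_one_of_iterate hx ((engel_eq_iterate d x n).symm.trans hn)

/-- Baer: without nontrivial periodic points the element lies in the Fitting subgroup. -/
theorem mem_fitting_of_sink [Finite G] {d : G} (h : ∀ x ∈ sink d, x = 1) :
    d ∈ Cfsg.fittingSubgroup G := by
  refine H35.mem_fitting_of_engel d fun x => ?_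
  obtain ⟨n, hn⟩ := exists_iterate_mem d x
  exact ⟨n, (engel_eq_iterate d x n).trans (h _ hn)⟩

theorem eq_one_of_nilpotent [Finite G] [Group.IsNilpotent G] {d x : G} (hx : x ∈ sink d) :
    x = 1 := by
  refine eq_one_of_mem_fitting ?_ hx
  exact Cfsg.Comp.le_fitting_of_subnormal (N := (⊤ : Subgroup G)) Subgroup.IsSubnormal.top
    inferInstance (Subgroup.mem_top d)

theorem subnormal_in {H : Subgroup G} (hH : SubT ↥H) {d : G} (hd : d ∈ H) :
    ((Subgroup.closure (insert d (sink d ∩ H))).subgroupOf H).IsSubnormal := by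
  have h := hH ⟨d, hd⟩
  have e := map_subtype_sT (H := H) ⟨d, hd⟩
  simp only at e
  rw [← e, Subgroup.subgroupOf, Subgroup.comap_map_eq_self_of_injective H.subtype_injective]
  exact h

theorem sT_subnormal_in {H : Subgroup G} (hH : SubT ↥H) {d : G} (hle : sT d ≤ H) :
    ((sT d).subgroupOf H).IsSubnormal := by
  obtain ⟨hd, hsub⟩ := sT_le_iff.1 hle
  have h := subnormal_in hH hd
  rwa [Set.inter_eq_left.2 hsub] at h

theorem card_lt_of_ne_top [Finite G] {H : Subgroup G} (h : H ≠ ⊤) : Nat.card H < Nat.card G :=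
  lt_of_le_of_ne (Nat.le_of_dvd Nat.card_pos H.card_subgroup_dvd_card)
    (fun e => h (H.eq_top_of_card_eq e))

end H13.Sink
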