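import Cfsg.Agent.H13.Sink.Setup
import Cfsg.Agent.H13.Sink.NoFail
import Cfsg.Agent.H13.Sink.Pair
import Cfsg.Agent.H53.Sink.Cell
import Cfsg.Agent.H66.Sink.CoreNe

/-!
The assembly of the proof that `sT d` is subnormal from the core, tree and key modules.
-/

set_option autoImplicit false

namespace H13.Sink

universe u

theorem main_of (hT : CoreStmt.{u}) (hTree : TreeStmt.{u})
    (hKey : ∀ {G : Type u} [Group G] [Finite G] (S : Sys G), S.NoFail → S.Join) :
    MainStmt.{u} := by
  suffices h : ∀ (n : ℕ) (G : Type u) [Group G] [Finite G], Nat.card G = n → SubT G from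
    fun G _ _ => h _ G rfl
  intro n
  induction n using Nat.strong_induction_on with
  | _ n ih =>
    intro G _ _ hn
    by_contra hG
    obtain ⟨S⟩ := setup (fun H _ _ hH => ih (Nat.card H) (hn ▸ hH) H rfl) hG
    have hN := S.noFail H53.Sink.cell hT (H66.Sink.coreNe S)
    have hFo := S.foreign hN
    exact hTree S S.mutual_pair hFo S.self (hKey S hN) (S.pair hFo (hKey S hN))

end H13.Sink
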