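import Cfsg.Agent.H13.Sink.Move
import Cfsg.Agent.H75.Basic

/-!
The cells inside proper subgroups of a minimal counterexample.
-/

set_option autoImplicit false

namespace H13.Sink

universe u

variable {G : Type u} [Group G] [Finite G]

omit [Finite G] in
theorem mem_normalizer_map_subtype {B : Subgroup G} {X : Subgroup ↥B} {g : ↥B}
    (h : g ∈ Subgroup.normalizer (X : Set ↥B)) :
    (g : G) ∈ Subgroup.normalizer (X.map B.subtype : Set G) :=
  Subgroup.le_normalizer_map B.subtype (Subgroup.mem_map_of_mem B.subtype h)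

theorem pCoreOf_le_fitOf (q : ℕ) [Fact q.Prime] (B : Subgroup G) :
    Cfsg.pCoreOf q B ≤ fitOf B :=
  Subgroup.map_mono (Cfsg.Comp.pCore_le_fitting q)

omit [Finite G] in
theorem fitOf_le (B : Subgroup G) : fitOf B ≤ B := Subgroup.map_subtype_le _

omit [Finite G] in
theorem mem_fitOf {B : Subgroup G} {x : G} (hx : x ∈ B) :
    x ∈ fitOf B ↔ (⟨x, hx⟩ : ↥B) ∈ Cfsg.fittingSubgroup ↥B := by
  refine ⟨?_, fun h => ⟨_, h, rfl⟩⟩
  rintro ⟨y, hy, hyx⟩
  obtain rfl : y = ⟨x, hx⟩ := Subtype.ext hyx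
  exact hy

namespace Sys

variable (S : Sys G)
include S

theorem fitOf_le_normalizer (hC : CellStmt.{u}) {d : G} {B : Subgroup G} (hB : B ≠ ⊤)
    (hdB : d ∈ B) : fitOf B ≤ Subgroup.normalizer (cellIn d B : Set G) := by
  have h := (hC (S.subT hB) ⟨d, hdB⟩).1
  rintro _ ⟨y, hy, rfl⟩
  have := mem_normalizer_map_subtype (h (Cfsg.Comp.fitting_le_fStar hy))
  rwa [map_subtype_sinkGrp] at this

theorem cellIn_eq (hC : CellStmt.{u}) {d e : G} {B : Subgroup G} (hB : B ≠ ⊤)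
    (hdB : d ∈ B) (heB : e ∈ B) (h : e * d⁻¹ ∈ fitOf B) : cellIn e B = cellIn d B := by
  have h2 : (⟨e, heB⟩ : ↥B) * ⟨d, hdB⟩⁻¹ ∈ Cfsg.fittingSubgroup ↥B :=
    (mem_fitOf (mul_mem heB (inv_mem hdB))).1 h
  have := congrArg (Subgroup.map B.subtype) ((hC (S.subT hB) ⟨d, hdB⟩).2.1 ⟨e, heB⟩ h2)
  rwa [map_subtype_sinkGrp, map_subtype_sinkGrp] at this

theorem mem_normalizer_of_phi (hC : CellStmt.{u}) {d g : G} {B : Subgroup G} (hB : B ≠ ⊤)
    (hdB : d ∈ B) (hgB : g ∈ B) (h : phi d g ∈ fitOf B) :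
    g ∈ Subgroup.normalizer (cellIn d B : Set G) := by
  have h2 : phi (⟨d, hdB⟩ : ↥B) ⟨g, hgB⟩ ∈ Cfsg.fittingSubgroup ↥B := by
    have hm : phi d g ∈ B := fitOf_le B h
    exact (mem_fitOf hm).1 h
  have := mem_normalizer_map_subtype ((hC (S.subT hB) ⟨d, hdB⟩).2.2 ⟨g, hgB⟩ h2)
  rwa [map_subtype_sinkGrp] at this

/-- A `q`-subgroup of `B` normalised by what covers `F*` modulo `O_q` lies in `O_q(B)`. -/
theorem le_pCoreOf (hT : CoreStmt.{u}) {q : ℕ} [Fact q.Prime] {d : G} {B R : Subgroup G}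
    (hB : B ≠ ⊤) (hdB : d ∈ B) (hRB : R ≤ B) (hR : IsPGroup q R)
    (hd : d ∈ Subgroup.normalizer (R : Set G))
    (hs : ∀ x ∈ sink d, x ∈ B → x ∈ Subgroup.normalizer (R : Set G))
    (hc : ∀ g ∈ B, phi d g ∈ Cfsg.pCoreOf q B → g ∈ Subgroup.normalizer (R : Set G)) :
    R ≤ Cfsg.pCoreOf q B := by
  have key : ∀ w : ↥B, (w : G) ∈ Subgroup.normalizer (R : Set G) →
      w ∈ Subgroup.normalizer (R.subgroupOf B : Set ↥B) := by
    intro w hw
    rw [Subgroup.mem_normalizer_iff]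
    intro r
    simp only [Subgroup.mem_subgroupOf]
    exact Subgroup.mem_normalizer_iff.1 hw r
  have h := hT (A := ↥B) q (fun A _ _ hA => S.smaller A (hA.trans_lt (card_lt_of_ne_top hB)))
    ⟨d, hdB⟩ (R.subgroupOf B) (hR.of_equiv (Subgroup.subgroupOfEquivOfLe hRB).symm) (key _ hd)
    (fun x hx => key x (hs _ (mem_sink_subtype.1 hx) x.2))
    (fun g hg => key g (hc _ g.2 ⟨_, hg, rfl⟩))
  rw [← Subgroup.map_subgroupOf_eq_of_le hRB]
  exact Subgroup.map_mono h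

end Sys

end H13.Sink
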