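import Mathlib
import Cfsg.Agent.CompLayer

/-!
An element `d` of a finite group and the periodic points of `g ↦ g d g⁻¹ d⁻¹` generate a subnormal
subgroup: definitions and the interface of a minimal counterexample.
-/

set_option autoImplicit false

namespace H13.Sink

universe u

variable {G : Type u} [Group G]

/-- The commutator with `d`. -/
def phi (d g : G) : G := g * d * g⁻¹ * d⁻¹

/-- The periodic points of the commutator map of `d`. -/
def sink (d : G) : Set G := Function.periodicPts (phi d)

/-- The subgroup generated by the periodic points. -/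
def sinkGrp (d : G) : Subgroup G := Subgroup.closure (sink d)

/-- The subgroup generated by `d` and the periodic points. -/
def sT (d : G) : Subgroup G := Subgroup.closure (insert d (sink d))

/-- The periodic points lying in `B`. -/
def cellIn (d : G) (B : Subgroup G) : Subgroup G := Subgroup.closure (sink d ∩ (B : Set G))

/-- The Fitting subgroup of `H`, as a subgroup of `G`. -/
def fitOf (H : Subgroup G) : Subgroup G := (Cfsg.fittingSubgroup ↥H).map H.subtype

/-- The statement to be proved, for one group. -/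
def SubT (G : Type u) [Group G] : Prop := ∀ d : G, (sT d).IsSubnormal

/-- What a minimal counterexample provides: a conjugacy class `K`, and for each `d ∈ K` the
unique maximal subgroup `M d` containing `sT d`. -/
structure Sys (G : Type u) [Group G] where
  /-- The class. -/
  K : Set G
  /-- The maximal subgroup attached to a member of the class. -/
  M : G → Subgroup G
  nonempty : K.Nonempty
  conj_mem : ∀ d ∈ K, ∀ g : G, g * d * g⁻¹ ∈ K
  trans : ∀ d ∈ K, ∀ e ∈ K, ∃ g : G, g * d * g⁻¹ = e
  coatom : ∀ d ∈ K, IsCoatom (M d)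
  mem : ∀ d ∈ K, d ∈ M d
  sink_le : ∀ d ∈ K, sink d ⊆ M d
  cent_le : ∀ d ∈ K, Subgroup.centralizer ({d} : Set G) ≤ M d
  conj_M : ∀ d ∈ K, ∀ g : G, M (g * d * g⁻¹) = (M d).map (MulAut.conj g).toMonoidHom
  self_norm : ∀ d ∈ K, Subgroup.normalizer (M d : Set G) = M d
  core : ∀ d ∈ K, ∀ R : Subgroup G, R.Normal → R ≤ M d → R = ⊥
  closed : ∀ d ∈ K, ∀ H : Subgroup G, H ≠ ⊤ → sT d ≤ H → H ≤ M d
  sink_ne : ∀ d ∈ K, ∃ x ∈ sink d, x ≠ 1
  smaller : ∀ (H : Type u) [Group H] [Finite H], Nat.card H < Nat.card G → SubT H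

/-- Two members of different cells, each lying in the cell of the other. -/
def Sys.Mutual (S : Sys G) : Prop :=
  ∃ d ∈ S.K, ∃ f ∈ S.K, S.M d ≠ S.M f ∧ d ∈ S.M f ∧ f ∈ S.M d

/-- The maximal subgroups have nontrivial Fitting subgroup. -/
def Sys.CoreNe (S : Sys G) : Prop := ∀ d ∈ S.K, fitOf (S.M d) ≠ ⊥

/-- A member has no nontrivial periodic point in the cell of another containing it. -/
def Sys.NoFail (S : Sys G) : Prop :=
  ∀ d ∈ S.K, ∀ f ∈ S.K, d ∈ S.M f → S.M d ≠ S.M f → ∀ x ∈ sink d, x ∈ S.M f → x = 1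

/-- A member lying in the cell of another lies in its Fitting subgroup. -/
def Sys.Foreign (S : Sys G) : Prop :=
  ∀ d ∈ S.K, ∀ f ∈ S.K, d ∈ S.M f → S.M d ≠ S.M f → d ∈ fitOf (S.M f)

/-- A member is not in the Fitting subgroup of its cell. -/
def Sys.Self (S : Sys G) : Prop := ∀ d ∈ S.K, d ∉ fitOf (S.M d)

/-- A member acts nilpotently on the Fitting subgroup of its cell. -/
def Sys.Join (S : Sys G) : Prop :=
  ∀ x ∈ S.K, Group.IsNilpotent ↥(fitOf (S.M x) ⊔ Subgroup.zpowers x)

/-- Two members of different cells generate the whole group or a nilpotent subgroup. -/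
def Sys.Pair (S : Sys G) : Prop :=
  ∀ x ∈ S.K, ∀ y ∈ S.K, S.M x ≠ S.M y → Subgroup.closure ({x, y} : Set G) ≠ ⊤ →
    Group.IsNilpotent ↥(Subgroup.closure ({x, y} : Set G))

end H13.Sink
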