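import Cfsg.Agent.H13.Sink.Assembly
import Cfsg.Agent.H43.Sink.Core
import Cfsg.Agent.H66.Sink.Key
import Cfsg.Agent.H70.Sink.Tree

/-!
For every element `d` of a finite group, `d` and the periodic points of `g ↦ g d g⁻¹ d⁻¹`
generate a subnormal subgroup.
-/

set_option autoImplicit false

namespace H13.Sink

universe u

theorem main : MainStmt.{u} :=
  main_of (H43.Sink.core H53.Sink.cell) H70.Sink.tree fun S hN => H66.Sink.join S hN

end H13.Sink
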