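import Cfsg.Agent.H13.Sink.Stmts
import Cfsg.Agent.H13.Sink.Basic

/-!
Moving members of a cell: mutual pairs, and what follows from the absence of failing pairs.
-/

set_option autoImplicit false

namespace H13.Sink

universe u

variable {G : Type u} [Group G] [Finite G]

omit [Finite G] in
/-- A subnormal subgroup of `W` inside `M`, normalised by an element of `W` outside `M`. -/
theorem exists_mover {W M : Subgroup G} (hWM : ¬ W ≤ M) {T : Subgroup G}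
    (hT : (T.subgroupOf W).IsSubnormal) (hTW : T ≤ W) (hTM : T ≤ M) :
    ∃ T' : Subgroup G, T ≤ T' ∧ T' ≤ W ∧ T' ≤ M ∧ (T'.subgroupOf W).IsSubnormal ∧
      ∃ r ∈ W, r ∉ M ∧ ∀ x ∈ T', r * x * r⁻¹ ∈ T' ∧ r⁻¹ * x * r ∈ T' := by
  suffices h : ∀ U : Subgroup ↥W, U.IsSubnormal → U.map W.subtype ≤ M →
      ∃ U' : Subgroup ↥W, U ≤ U' ∧ U'.IsSubnormal ∧ U'.map W.subtype ≤ M ∧
        ∃ r : ↥W, (r : G) ∉ M ∧ r ∈ Subgroup.normalizer (U' : Set ↥W) by
    obtain ⟨U', hle, hU', hU'M, r, hrM, hr⟩ := h _ hT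
      (by rwa [Subgroup.map_subgroupOf_eq_of_le hTW])
    refine ⟨U'.map W.subtype, ?_, Subgroup.map_subtype_le _, hU'M, ?_, r, r.2, hrM, ?_⟩
    · rw [← Subgroup.map_subgroupOf_eq_of_le hTW]
      exact Subgroup.map_mono hle
    · rwa [Subgroup.subgroupOf, Subgroup.comap_map_eq_self_of_injective W.subtype_injective]
    · rintro _ ⟨x, hx, rfl⟩
      refine ⟨⟨r * x * r⁻¹, (Subgroup.mem_normalizer_iff.1 hr x).1 hx, rfl⟩,
        ⟨r⁻¹ * x * r, ?_, rfl⟩⟩
      have := (Subgroup.mem_normalizer_iff.1 (inv_mem hr) x).1 hx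
      rwa [inv_inv] at this
  intro U hU
  induction hU with
  | top =>
    intro h
    exact absurd (fun x hx => h ⟨⟨x, hx⟩, Subgroup.mem_top _, rfl⟩) hWM
  | step U K hle hK hN ih =>
    intro hUM
    by_cases hKM : K.map W.subtype ≤ M
    · obtain ⟨U', h1, h2⟩ := ih hKM
      exact ⟨U', hle.trans h1, h2⟩
    · obtain ⟨x, hxK, hxM⟩ := SetLike.not_le_iff_exists.1 hKM
      obtain ⟨r, hr, rfl⟩ := hxK
      exact ⟨U, le_rfl, .step U K hle hK hN, hUM, r, hxM,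
        (Subgroup.normal_subgroupOf_iff_le_normalizer hle).1 hN hr⟩

omit [Finite G] in
theorem cellIn_conj_mem {d x g : G} (hx : x ∈ sink d) : g * x * g⁻¹ ∈ sink (g * d * g⁻¹) :=
  mem_sink_map (MulAut.conj g).toMonoidHom hx

namespace Sys

variable (S : Sys G)
include S

omit [Finite G] in
theorem ne_top {d : G} (hd : d ∈ S.K) : S.M d ≠ ⊤ := (S.coatom d hd).1

theorem subT {B : Subgroup G} (hB : B ≠ ⊤) : SubT ↥B :=
  S.smaller ↥B (card_lt_of_ne_top hB)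

omit [Finite G] in
theorem sT_le {d : G} (hd : d ∈ S.K) : sT d ≤ S.M d :=
  sT_le_iff.2 ⟨S.mem d hd, S.sink_le d hd⟩

omit [Finite G] in
theorem mem_of_conj_eq {d g : G} (hd : d ∈ S.K)
    (h : S.M (g * d * g⁻¹) = S.M d) : g ∈ S.M d := by
  rw [← S.self_norm d hd]
  exact Cfsg.Comp.mem_normalizer_of_map_conj_eq ((S.conj_M d hd g).symm.trans h)

omit [Finite G] in
theorem mem_M_conj {d g x : G} (hd : d ∈ S.K) :
    x ∈ S.M (g * d * g⁻¹) ↔ g⁻¹ * x * g ∈ S.M d := by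
  rw [S.conj_M d hd g, Subgroup.mem_map_equiv]
  simp

/-- The basic move: a proper subgroup through `d` outside the cell of `d`. -/
theorem move {d : G} (hd : d ∈ S.K) {W : Subgroup G} (hW : W ≠ ⊤) (hdW : d ∈ W)
    (hWM : ¬ W ≤ S.M d) :
    ∃ T : Subgroup G, d ∈ T ∧ (sink d ∩ W : Set G) ⊆ T ∧ T ≤ W ∧ T ≤ S.M d ∧
      (T.subgroupOf W).IsSubnormal ∧
      ∃ r ∈ W, r ∉ S.M d ∧ S.M (r * d * r⁻¹) ≠ S.M d ∧ r * d * r⁻¹ ∈ S.M d ∧
        d ∈ S.M (r * d * r⁻¹) ∧ ∀ x ∈ T, r * x * r⁻¹ ∈ T ∧ r⁻¹ * x * r ∈ T := by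
  obtain ⟨T, h1, h2, h3, h4, r, hr, hrM, hrT⟩ := exists_mover hWM
    (subnormal_in (S.subT hW) hdW)
    ((Subgroup.closure_le W).2 (Set.insert_subset_iff.2 ⟨hdW, Set.inter_subset_right⟩))
    ((Subgroup.closure_le (S.M d)).2 (Set.insert_subset_iff.2
      ⟨S.mem d hd, fun x hx => S.sink_le d hd hx.1⟩))
  have hdT : d ∈ T := h1 (Subgroup.subset_closure (Set.mem_insert _ _))
  refine ⟨T, hdT, fun x hx => h1 (Subgroup.subset_closure (Set.mem_insert_of_mem _ hx)), h2, h3,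
    h4, r, hr, hrM, fun h => hrM (S.mem_of_conj_eq hd h), h3 (hrT d hdT).1, ?_, hrT⟩
  exact (S.mem_M_conj hd).2 (h3 (hrT d hdT).2)

/-- Some member lies in a cell other than its own. -/
theorem exists_arrow : ∃ d ∈ S.K, ∃ f ∈ S.K, f ∈ S.M d ∧ S.M d ≠ S.M f := by
  obtain ⟨d, hd⟩ := S.nonempty
  by_contra hcon
  push Not at hcon
  refine S.ne_top hd (top_le_iff.1 fun g _ => ?_)
  by_contra hg
  set F : ℕ → G := fun n => (phi d)^[n] g * d * ((phi d)^[n] g)⁻¹ with hF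
  have hstep : ∀ n, F n = (phi d)^[n + 1] g * d := fun n => by
    rw [Function.iterate_succ_apply']
    simp [hF, phi]
  have hnotin : ∀ n, (phi d)^[n] g ∉ S.M d := by
    intro n
    induction n with
    | zero => exact hg
    | succ n ih =>
      intro h
      have hmem : F n ∈ S.M d := hstep n ▸ mul_mem h (S.mem d hd)
      exact ih (S.mem_of_conj_eq hd (hcon d hd _ (S.conj_mem d hd _) hmem).symm)
  obtain ⟨n, hn⟩ := exists_iterate_mem d g
  exact hnotin n (S.sink_le d hd hn)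

theorem mutual_pair : S.Mutual := by
  obtain ⟨d, hd, f, hf, hfd, hne⟩ := S.exists_arrow
  have hW : ¬ S.M d ≤ S.M f := fun h => by
    rcases (S.coatom d hd).le_iff.1 h with h' | h'
    · exact S.ne_top hf h'
    · exact hne h'.symm
  obtain ⟨T, -, -, -, -, -, r, -, -, hne', h1, h2, -⟩ := S.move hf (S.ne_top hd) hfd hW
  exact ⟨f, hf, _, S.conj_mem f hf r, hne'.symm, h2, h1⟩

/-- Every member has a partner. -/
theorem exists_partner {x : G} (hx : x ∈ S.K) :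
    ∃ f ∈ S.K, S.M x ≠ S.M f ∧ x ∈ S.M f ∧ f ∈ S.M x := by
  obtain ⟨d, hd, f, hf, hne, h1, h2⟩ := S.mutual_pair
  obtain ⟨g, rfl⟩ := S.trans d hd x hx
  refine ⟨g * f * g⁻¹, S.conj_mem f hf g, ?_, ?_, ?_⟩
  · rw [S.conj_M d hd, S.conj_M f hf]
    exact fun h => hne (Subgroup.map_injective (MulAut.conj g).injective h)
  · rw [S.mem_M_conj hf]; simpa [mul_assoc] using h1
  · rw [S.mem_M_conj hd]; simpa [mul_assoc] using h2

theorem self : S.Self := by
  intro d hd h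
  obtain ⟨x, hx, hx1⟩ := S.sink_ne d hd
  obtain ⟨⟨d', hd'⟩, hd'F, hd'e⟩ := h
  obtain rfl : d' = d := hd'e
  have := eq_one_of_mem_fitting hd'F (x := (⟨x, S.sink_le _ hd hx⟩ : ↥(S.M d')))
    (mem_sink_subtype.2 hx)
  exact hx1 (congrArg Subtype.val this)

theorem foreign (hN : S.NoFail) : S.Foreign := by
  intro d hd f hf hdf hne
  refine ⟨⟨d, hdf⟩, mem_fitting_of_sink (fun x hx => ?_), rfl⟩
  exact Subtype.ext (hN d hd f hf hdf hne x (mem_sink_subtype.1 hx) x.2)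

/-- A proper subgroup through `d` lies in the cell of `d` or has `d` in its Fitting subgroup. -/
theorem dich (hFo : S.Foreign) {d : G} (hd : d ∈ S.K) {W : Subgroup G} (hW : W ≠ ⊤)
    (hdW : d ∈ W) (hWM : ¬ W ≤ S.M d) : d ∈ fitOf W := by
  obtain ⟨T, hdT, -, hTW, hTM, hTsn, r, hr, -, hne, hrd, hdr, hrT⟩ := S.move hd hW hdW hWM
  have hTe : T ≤ S.M (r * d * r⁻¹) := fun x hx => (S.mem_M_conj hd).2 (hTM (hrT x hx).2)
  set B := S.M (r * d * r⁻¹) with hB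
  obtain ⟨⟨d', hd'⟩, hd'F, hd'e⟩ := hFo d hd _ (S.conj_mem d hd r) hdr hne.symm
  obtain rfl : d' = d := hd'e
  refine ⟨⟨d', hdW⟩, mem_fitting_of_sink (fun x hx => ?_), rfl⟩
  have hxT : x ∈ T.subgroupOf W := by
    refine sink_subset_of_subnormal hTsn ?_ hx
    exact Subgroup.mem_subgroupOf.2 hdT
  have hxG : (x : G) ∈ sink d' := mem_sink_subtype.1 hx
  have := eq_one_of_mem_fitting hd'F (x := (⟨(x : G), hTe (Subgroup.mem_subgroupOf.1 hxT)⟩ : ↥B))
    (mem_sink_subtype.2 hxG)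
  exact Subtype.ext (by simpa using congrArg Subtype.val this)

end Sys

end H13.Sink
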