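import Cfsg.Agent.H13.Sink.Stmts
import Cfsg.Agent.H13.Sink.Basic
import Cfsg.Agent.H3.SubnormalJoin
import Cfsg.Agent.H1.Cores

/-!
A minimal counterexample gives a system `Sys`.
-/

set_option autoImplicit false

namespace H13.Sink

universe u

open Pointwise

variable {G : Type u} [Group G] [Finite G]

theorem map_conj_sT (t g : G) :
    (sT t).map (MulAut.conj g).toMonoidHom = sT (g * t * g⁻¹) := map_sT (MulAut.conj g) t

theorem smul_sT (t g : G) : MulAut.conj g • sT t = sT (g * t * g⁻¹) := map_conj_sT t g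

theorem sT_le_of_normal {t : G} {J : Subgroup G} (hJ : J.Normal) (ht : t ∈ J) : sT t ≤ J :=
  sT_le_iff.2 ⟨ht, sink_subset_of_subnormal hJ.isSubnormal ht⟩

theorem normalClosure_eq_top {t : G}
    (hsmall : ∀ (H : Type u) [Group H] [Finite H], Nat.card H < Nat.card G → SubT H)
    (hsn : ¬ (sT t).IsSubnormal) : Subgroup.normalClosure ({t} : Set G) = ⊤ := by
  by_contra hne
  have hle := sT_le_of_normal Subgroup.normalClosure_normal
    (Subgroup.subset_normalClosure (Set.mem_singleton t))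
  exact hsn (Subgroup.IsSubnormal.trans hle
    (sT_subnormal_in (hsmall _ (card_lt_of_ne_top hne)) hle)
    Subgroup.normalClosure_normal.isSubnormal)

theorem not_normal_of_mem {t : G} (hN : Subgroup.normalClosure ({t} : Set G) = ⊤) {J : Subgroup G}
    (hJ : J.Normal) (htJ : t ∈ J) : J = ⊤ := by
  rw [eq_top_iff, ← hN]
  haveI := hJ
  exact Subgroup.normalClosure_le_normal (by simpa using htJ)

theorem exists_unique_over {t : G}
    (hsmall : ∀ (H : Type u) [Group H] [Finite H], Nat.card H < Nat.card G → SubT H)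
    (hsn : ¬ (sT t).IsSubnormal) :
    ∃ M : Subgroup G, M ≠ ⊤ ∧ sT t ≤ M ∧ ∀ V : Subgroup G, V ≠ ⊤ → sT t ≤ V → V ≤ M := by
  have hN := normalClosure_eq_top hsmall hsn
  have hTne : sT t ≠ ⊤ := fun h => hsn (h ▸ Subgroup.IsSubnormal.top)
  have key : ∀ (g : G) (V : Subgroup G), V ≠ ⊤ → MulAut.conj g • sT t ≤ V →
      ((MulAut.conj g • sT t).subgroupOf V).IsSubnormal := by
    intro g V hV hle
    rw [smul_sT] at hle ⊢
    exact sT_subnormal_in (hsmall _ (card_lt_of_ne_top hV)) hle
  have hself : ∀ V : Subgroup G, V ≠ ⊤ → sT t ≤ V →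
      ((sT t).subgroupOf V).IsSubnormal := by
    intro V hV hle
    have := key 1 V hV (by simpa using hle)
    simpa using this
  set S : Subgroup G → Set (Subgroup G) := fun V =>
    {B | (∃ g : G, B = MulAut.conj g • sT t) ∧ B ≤ V ∧ (B.subgroupOf V).IsSubnormal}
  obtain ⟨M, ⟨hM1, hM2⟩, hM⟩ := H3.zipper (sT t) {V : Subgroup G | V ≠ ⊤ ∧ sT t ≤ V}
    ⟨sT t, hTne, le_rfl⟩ S (fun V B => Iff.rfl)
    (fun V hV W _ B hB' hBV => ⟨hB'.1, hBV, by
      obtain ⟨⟨g, rfl⟩, -, -⟩ := hB'
      exact key g V hV.1 hBV⟩)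
    (by
      intro V hV W hW
      refine ⟨Subgroup.normalizer ((sSup (S V ∩ S W) : Subgroup G) : Set G), ?_, le_rfl⟩
      have hAJ : sT t ≤ sSup (S V ∩ S W) := le_sSup (s := S V ∩ S W)
        ⟨⟨⟨1, by simp⟩, hV.2, hself V hV.1 hV.2⟩, ⟨⟨1, by simp⟩, hW.2, hself W hW.1 hW.2⟩⟩
      refine ⟨fun htop => ?_, hAJ.trans Subgroup.le_normalizer⟩
      have hJn : (sSup (S V ∩ S W) : Subgroup G).Normal := Subgroup.normalizer_eq_top_iff.1 htop
      have hJV : sSup (S V ∩ S W) ≤ V := sSup_le fun B hB => hB.1.2.1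
      have := not_normal_of_mem hN hJn (hAJ (mem_sT_self t))
      exact hV.1 (top_le_iff.1 (this ▸ hJV)))
  exact ⟨M, hM1, hM2, fun V h1 h2 => hM V ⟨h1, h2⟩⟩

/-- A minimal counterexample yields a system. -/
theorem exists_sys
    (hsmall : ∀ (H : Type u) [Group H] [Finite H], Nat.card H < Nat.card G → SubT H)
    (hG : ¬ SubT G) : Nonempty (Sys G) := by
  unfold SubT at hG
  push Not at hG
  obtain ⟨t, hsn⟩ := hG
  have hN := normalClosure_eq_top hsmall hsn
  obtain ⟨M, hMtop, hTM, hMmax⟩ := exists_unique_over hsmall hsn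
  have htM : t ∈ M := hTM (mem_sT_self t)
  have hco : IsCoatom M := ⟨hMtop, fun V hV => by
    by_contra hne
    exact absurd (hMmax V hne (hTM.trans hV.le)) (not_le_of_gt hV)⟩
  have hnt : Subgroup.normalizer (sT t : Set G) ≤ M := by
    refine hMmax _ (fun h => hMtop ?_) Subgroup.le_normalizer
    have := not_normal_of_mem hN (Subgroup.normalizer_eq_top_iff.1 h) (mem_sT_self t)
    exact top_le_iff.1 (this ▸ hTM)
  have hcM : ∀ c : G, c * t * c⁻¹ = t → c ∈ M := fun c hc => hnt <| by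
    apply Cfsg.Comp.mem_normalizer_of_map_conj_eq
    rw [map_conj_sT, hc]
  have hsM : Subgroup.normalizer (M : Set G) = M := by
    rcases eq_or_lt_of_le (Subgroup.le_normalizer (H := M)) with h | h
    · exact h.symm
    · exact absurd (not_normal_of_mem hN (Subgroup.normalizer_eq_top_iff.1 (hco.2 _ h)) htM) hMtop
  -- the class and the attached maximal subgroups
  let K : Set G := {d | ∃ g : G, g * t * g⁻¹ = d}
  let Mf : G → Subgroup G := fun d =>
    open Classical in if h : d ∈ K then M.map (MulAut.conj h.choose).toMonoidHom else ⊤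
  have hMf : ∀ g : G, Mf (g * t * g⁻¹) = M.map (MulAut.conj g).toMonoidHom := by
    intro g
    have hd : g * t * g⁻¹ ∈ K := ⟨g, rfl⟩
    simp only [Mf, dif_pos hd]
    set h := hd.choose
    have hh : h * t * h⁻¹ = g * t * g⁻¹ := hd.choose_spec
    have hc : g⁻¹ * h ∈ M := hcM _ (by
      calc g⁻¹ * h * t * (g⁻¹ * h)⁻¹ = g⁻¹ * (h * t * h⁻¹) * g := by group
        _ = t := by rw [hh]; group)
    have := Cfsg.Comp.map_conj_eq_of_mem_normalizer
      (show g⁻¹ * h ∈ Subgroup.normalizer (M : Set G) from Subgroup.le_normalizer hc)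
    conv_rhs => rw [← this, Subgroup.map_map]
    congr 1
    ext x
    simp [mul_assoc]
  have hmemMf : ∀ g x : G, x ∈ Mf (g * t * g⁻¹) ↔ g⁻¹ * x * g ∈ M := by
    intro g x
    rw [hMf, Subgroup.mem_map_equiv]
    simp
  refine ⟨
    { K := K
      M := Mf
      nonempty := ⟨t, 1, by simp⟩
      conj_mem := ?_
      «trans» := ?_
      coatom := ?_
      mem := ?_
      sink_le := ?_
      cent_le := ?_
      conj_M := ?_
      self_norm := ?_
      core := ?_
      closed := ?_
      sink_ne := ?_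
      smaller := hsmall }⟩
  · rintro d ⟨g, rfl⟩ a
    exact ⟨a * g, by group⟩
  · rintro d ⟨g, rfl⟩ e ⟨a, rfl⟩
    exact ⟨a * g⁻¹, by group⟩
  · rintro d ⟨g, rfl⟩
    rw [hMf]
    exact ((MulEquiv.mapSubgroup (MulAut.conj g)).isCoatom_iff M).2 hco
  · rintro d ⟨g, rfl⟩
    rw [hmemMf]
    simpa [mul_assoc] using htM
  · rintro d ⟨g, rfl⟩ y hy
    rw [sink_conj] at hy
    obtain ⟨x, hx, rfl⟩ := hy
    rw [SetLike.mem_coe, hmemMf]
    simpa [mul_assoc] using hTM (sink_subset_sT t hx)
  · rintro d ⟨g, rfl⟩ c hc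
    rw [Subgroup.mem_centralizer_singleton_iff] at hc
    rw [hmemMf]
    refine hcM _ ?_
    calc g⁻¹ * c * g * t * (g⁻¹ * c * g)⁻¹ = g⁻¹ * (c * (g * t * g⁻¹)) * c⁻¹ * g := by group
      _ = t := by rw [hc]; group
  · rintro d ⟨g, rfl⟩ a
    rw [show a * (g * t * g⁻¹) * a⁻¹ = a * g * t * (a * g)⁻¹ by group, hMf, hMf, Subgroup.map_map]
    congr 1
    ext x
    simp [mul_assoc]
  · rintro d ⟨g, rfl⟩
    rw [hMf, ← Subgroup.map_equiv_normalizer_eq, hsM]
  · rintro d ⟨g, rfl⟩ R hR hle
    haveI := hR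
    by_contra hne
    have hRM : R ≤ M := by
      intro r hr
      have := (hmemMf g _).1 (hle (hR.conj_mem r hr g))
      simpa [mul_assoc] using this
    have htR : t ∉ R := fun h => hMtop (top_le_iff.1 (not_normal_of_mem hN hR h ▸ hRM))
    have hcard : Nat.card (G ⧸ R) < Nat.card G := by
      rw [Subgroup.card_eq_card_quotient_mul_card_subgroup R]
      exact lt_mul_of_one_lt_right Nat.card_pos (R.one_lt_card_iff_ne_bot.2 hne)
    set π := QuotientGroup.mk' R
    have himg : sT (π t) ≤ (sT t).map π := by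
      refine sT_le_iff.2 ⟨⟨t, mem_sT_self t, rfl⟩, fun y hy => ?_⟩
      obtain ⟨x, hx, rfl⟩ := exists_sink_lift π (QuotientGroup.mk'_surjective R) hy
      exact ⟨x, sink_subset_sT t hx, rfl⟩
    have hsn' : ((sT (π t)).comap π).IsSubnormal := (hsmall _ hcard _).comap π
    have hle' : (sT (π t)).comap π ≤ M := by
      refine (Subgroup.comap_mono himg).trans ?_
      rw [Subgroup.comap_map_eq, QuotientGroup.ker_mk']
      exact sup_le hTM hRM
    rcases hsn'.lt_normal with h | ⟨J, hJ, hle2, hJlt⟩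
    · exact hMtop (top_le_iff.1 (h ▸ hle'))
    · exact hJlt.ne (not_normal_of_mem hN hJ (hle2 (mem_sT_self (π t))))
  · rintro d ⟨g, rfl⟩ H hH hle
    have h1 : sT t ≤ H.comap (MulAut.conj g).toMonoidHom := by
      rw [← Subgroup.map_le_iff_le_comap, map_conj_sT]; exact hle
    have h2 : H.comap (MulAut.conj g).toMonoidHom ≠ ⊤ := by
      intro h
      apply hH
      rw [← Subgroup.map_comap_eq_self_of_surjective
        (f := (MulAut.conj g).toMonoidHom) (MulAut.conj g).surjective H, h,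
        Subgroup.map_top_of_surjective _ (MulAut.conj g).surjective]
    have h3 := Subgroup.map_mono (f := (MulAut.conj g).toMonoidHom) (hMmax _ h2 h1)
    rwa [Subgroup.map_comap_eq_self_of_surjective (f := (MulAut.conj g).toMonoidHom)
      (MulAut.conj g).surjective, ← hMf] at h3
  · rintro d ⟨g, rfl⟩
    by_contra hcon
    push Not at hcon
    have h0 : t ∈ Cfsg.fittingSubgroup G := mem_fitting_of_sink fun x hx => by
      have := hcon _ (show g * x * g⁻¹ ∈ sink (g * t * g⁻¹) by
        rw [sink_conj]; exact ⟨x, hx, rfl⟩)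
      simpa using this
    have htop := not_normal_of_mem hN inferInstance h0
    have hnil : Group.IsNilpotent ↥(Cfsg.fittingSubgroup G) := H36.isNilpotent_fittingSubgroup
    rw [htop] at hnil
    haveI : Group.IsNilpotent G := Group.nilpotent_of_mulEquiv Subgroup.topEquiv
    exact hsn (H3.subnormal_of_isNilpotent _)

theorem setup : SetupStmt.{u} := fun hsmall hG => exists_sys hsmall hG

end H13.Sink
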