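import Cfsg.Agent.H13.Sink.Defs

/-!
Statements of the modules of the proof that `sT d` is subnormal.
-/

set_option autoImplicit false

namespace H13.Sink

universe u

/-- The periodic points generate a subgroup normalised by `F*`, and depending on `d` only modulo
the Fitting subgroup. -/
def CellStmt : Prop :=
  ∀ {A : Type u} [Group A] [Finite A], SubT A → ∀ d : A,
    Cfsg.generalizedFittingSubgroup A ≤ Subgroup.normalizer (sinkGrp d : Set A) ∧
    (∀ e : A, e * d⁻¹ ∈ Cfsg.fittingSubgroup A → sinkGrp e = sinkGrp d) ∧
    (∀ g : A, phi d g ∈ Cfsg.fittingSubgroup A → g ∈ Subgroup.normalizer (sinkGrp d : Set A))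

/-- A `q`-subgroup normalised by `d`, its periodic points and the elements centralising `d`
modulo `O_q` lies in `O_q`. -/
def CoreStmt : Prop :=
  ∀ {A : Type u} [Group A] [Finite A] (q : ℕ) [Fact q.Prime],
    (∀ (B : Type u) [Group B] [Finite B], Nat.card B ≤ Nat.card A → SubT B) →
    ∀ (d : A) (R : Subgroup A), IsPGroup q R → d ∈ Subgroup.normalizer (R : Set A) →
      sink d ⊆ (Subgroup.normalizer (R : Set A) : Set A) →
      (∀ g : A, phi d g ∈ Cfsg.pCore q A → g ∈ Subgroup.normalizer (R : Set A)) →
      R ≤ Cfsg.pCore q A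

/-- A minimal counterexample yields a system. -/
def SetupStmt : Prop :=
  ∀ {G : Type u} [Group G] [Finite G],
    (∀ (H : Type u) [Group H] [Finite H], Nat.card H < Nat.card G → SubT H) →
    ¬ SubT G → Nonempty (Sys G)

/-- The finite tree argument. -/
def TreeStmt : Prop :=
  ∀ {G : Type u} [Group G] [Finite G] (S : Sys G),
    S.Mutual → S.Foreign → S.Self → S.Join → S.Pair → False

/-- The main theorem. -/
def MainStmt : Prop := ∀ (G : Type u) [Group G] [Finite G], SubT G

end H13.Sink
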